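import Groth.Agent.S7384
import Groth.Agent.S0591
import Groth.Agent.S4788
import Groth.Agent.AffLim.Points
import Groth.Agent.PullbackMod.Props

/-!
# A noetherian model of a finitely presented module on a finitely presented scheme
-/

set_option autoImplicit false
set_option linter.style.haveILetI false
set_option backward.isDefEq.respectTransparency false

universe u

open CategoryTheory CategoryTheory.Limits AlgebraicGeometry

noncomputable section

namespace Groth.Agent.GenFlatStrat

theorem isNoetherian_of_finiteType_int (Y : Scheme.{u}) [CompactSpace Y]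
    [LocallyOfFiniteType (Limits.IsTerminal.from specULiftZIsTerminal Y)] : IsNoetherian Y := by
  haveI : IsNoetherianRing (ULift.{u} ℤ) := isNoetherianRing_of_ringEquiv ℤ ULift.ringEquiv.symm
  haveI : IsLocallyNoetherian Y :=
    LocallyOfFiniteType.isLocallyNoetherian (Limits.IsTerminal.from specULiftZIsTerminal Y)
  exact {}

theorem exists_model {X S : Scheme.{u}} (f : X ⟶ S) [LocallyOfFinitePresentation f] [QuasiCompact f]
    [QuasiSeparated f] [CompactSpace S] [QuasiSeparatedSpace S] (F : X.Modules) (hq : Coh.IsQCoh F)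
    (hfp : CohB1.IsFP F) :
    ∃ (S₀ X₀ : Scheme.{u}) (_ : IsNoetherian S₀) (f₀ : X₀ ⟶ S₀) (g : X ⟶ X₀) (π : S ⟶ S₀)
      (F₀ : X₀.Modules), LocallyOfFinitePresentation f₀ ∧ QuasiCompact f₀ ∧ IsPullback g f f₀ π ∧
        Coh.IsQCoh F₀ ∧ CohB1.IsFP F₀ ∧ Nonempty ((Scheme.Modules.pullback g).obj F₀ ≅ F) := by
  obtain ⟨I, hpre, hdir, hne, DX, DS, φ, cX, cS, hcX, hcS, eX, eS, haff, hft, -⟩ :=
    Groth.Agent.S7384.result (𝟙 S)
  haveI : ∀ (a b : Iᵒᵖ) (q : a ⟶ b), IsAffineHom (DS.map q) := fun a b q => (haff a b q).2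
  haveI hN : ∀ a, IsNoetherian (DS.obj a) := fun a =>
    @isNoetherian_of_finiteType_int (DS.obj a) (hft a).2.1 (hft a).2.2.2
  obtain ⟨i, Xi, fi, gi, hfi, hfiqc, hfiqs, hpb⟩ :=
    Groth.Agent.S0591.result DS cS hcS X (f ≫ eS.inv)
  let D' := AffLim.baseChange DS i fi
  let c' := AffLim.baseChangeCone DS cS i fi
  let hc' : IsLimit c' := (AffLim.nonempty_isLimit_baseChangeCone DS cS hcS i fi).some
  let e : X ≅ c'.pt := hpb.isoPullback
  haveI : CompactSpace Xi := QuasiCompact.compactSpace_of_compactSpace fi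
  haveI : QuasiSeparatedSpace Xi := quasiSeparatedSpace_of_quasiSeparated fi
  haveI : ∀ (a b : Over i) (q : a ⟶ b), IsAffineHom (D'.map q) := fun _ _ _ =>
    AffLim.isAffineHom_baseChange_map DS i fi _
  let i₀ : Over i := Over.mk (𝟙 i)
  haveI : QuasiSeparatedSpace (D'.obj i₀) := by
    haveI : QuasiSeparated (pullback.fst fi (DS.map i₀.hom)) := inferInstance
    exact quasiSeparatedSpace_of_quasiSeparated (pullback.fst fi (DS.map i₀.hom))
  haveI : CompactSpace (D'.obj i₀) := AffLim.compactSpace_baseChange DS i fi i₀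
  let F' := (Scheme.Modules.pullback e.inv).obj F
  haveI := hq
  haveI : Coh.IsQCoh F' := Groth.Agent.PullbackMod.isQCoh_pullback e.inv F
  obtain ⟨j, -, Fj, hjq, hjfp, ⟨ej⟩⟩ := Groth.Agent.S4788.result D' c' hc' i₀ F'
    (Groth.Agent.PullbackMod.isFP_pullback e.inv F hfp)
  let g : X ⟶ D'.obj j := e.hom ≫ c'.π.app j
  let π : S ⟶ DS.obj j.left := eS.inv ≫ cS.π.app j.left
  refine ⟨DS.obj j.left, D'.obj j, hN _, pullback.snd fi (DS.map j.hom), g, π, Fj,
    MorphismProperty.pullback_snd _ _ hfi, MorphismProperty.pullback_snd _ _ hfiqc, ?_, hjq, hjfp, ?_⟩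
  · have h1 : g ≫ pullback.fst fi (DS.map j.hom) = gi := by
      simp [g, c', e, AffLim.baseChangeCone]
    have h2 : g ≫ pullback.snd fi (DS.map j.hom) = f ≫ π := by
      simp [g, c', e, π, AffLim.baseChangeCone]
    have hS : IsPullback gi f fi (eS.inv ≫ cS.π.app i) := by
      refine hpb.of_iso (Iso.refl _) (Iso.refl _) eS (Iso.refl _) (by simp) (by simp) (by simp) (by simp)
    refine IsPullback.of_right ?_ h2 (IsPullback.of_hasPullback fi (DS.map j.hom))
    rw [h1, show π ≫ DS.map j.hom = eS.inv ≫ cS.π.app i by simp [π]]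
    exact hS
  · exact ⟨((Scheme.Modules.pullbackComp e.hom (c'.π.app j)).app Fj).symm ≪≫
      (Scheme.Modules.pullback e.hom).mapIso ej ≪≫
      (Scheme.Modules.pullbackComp e.hom e.inv).app F ≪≫
      (Scheme.Modules.pullbackCongr e.hom_inv_id).app F ≪≫ (Scheme.Modules.pullbackId X).app F⟩

end Groth.Agent.GenFlatStrat
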