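import Groth.Agent.GenFlatStratLib.Base
import Groth.Agent.DVRCrit.Local
import Groth.Agent.PullbackMod.Props
import Groth.Agent.S4799

/-!
# Flattening stratifications over a noetherian base
-/

set_option autoImplicit false
set_option linter.style.haveILetI false

universe u

open CategoryTheory CategoryTheory.Limits AlgebraicGeometry TopologicalSpace

noncomputable section

namespace Groth.Agent.GenFlatStrat

variable {X S : Scheme.{u}} (f : X ⟶ S) (F : X.Modules)

/-- The stratum between two closed subsets, with the reduced structure. -/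
abbrev stratum (Z Z' : Closeds S) : Scheme.{u} :=
  ((Scheme.IdealSheafData.vanishingIdeal Z).subschemeι ⁻¹ᵁ Z'.compl : Scheme.Opens _)

/-- The map of the stratum to the base. -/
abbrev stratumι (Z Z' : Closeds S) : stratum Z Z' ⟶ S :=
  ((Scheme.IdealSheafData.vanishingIdeal Z).subschemeι ⁻¹ᵁ Z'.compl).ι ≫
    (Scheme.IdealSheafData.vanishingIdeal Z).subschemeι

variable [IsLocallyNoetherian S] [CompactSpace S] [LocallyOfFinitePresentation f] [QuasiCompact f]
  [Coh.IsQCoh F]

theorem exists_smaller (hF : CohB1.IsFP F) (Z : Closeds S) (hZ : Z ≠ ⊥) :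
    ∃ Z' < Z, FlatOn f F (stratumι Z Z') := by
  let I := Scheme.IdealSheafData.vanishingIdeal Z
  let Y := I.subscheme
  haveI : IsNoetherian S := {}
  haveI : IsReduced Y := Groth.Agent.DVRCrit.isReduced_vanishingIdeal Z
  haveI : IsLocallyNoetherian Y := LocallyOfFiniteType.isLocallyNoetherian I.subschemeι
  haveI : CompactSpace Y := QuasiCompact.compactSpace_of_compactSpace I.subschemeι
  haveI : IsNoetherian Y := {}
  have hr : Set.range I.subschemeι = Z := by
    rw [Scheme.IdealSheafData.range_subschemeι, Scheme.IdealSheafData.coe_support_vanishingIdeal]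
  obtain ⟨z, hz⟩ : (Z : Set S).Nonempty := Set.nonempty_iff_ne_empty.2 fun h => hZ (Closeds.ext h)
  obtain ⟨y, hy⟩ : z ∈ Set.range I.subschemeι := hr ▸ hz
  obtain ⟨o, ho, hne, hoC⟩ := NoetherianSpace.exists_isOpen_nonempty_subset_irreducibleComponent
    (irreducibleComponent y) (irreducibleComponent_mem_irreducibleComponents y)
  let V : Y.Opens := ⟨o, ho⟩
  haveI : IrreducibleSpace (V : Scheme.{u}) := by
    have h : IsIrreducible o :=
      ⟨hne, IsPreirreducible.open_subset isIrreducible_irreducibleComponent.2 ho hoC⟩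
    exact isIrreducible_iff_irreducibleSpace.1 h
  haveI : IsReduced (V : Scheme.{u}) := isReduced_of_isOpenImmersion V.ι
  haveI : IsIntegral (V : Scheme.{u}) := isIntegral_of_irreducibleSpace_of_isReduced _
  let j : (V : Scheme.{u}) ⟶ S := V.ι ≫ I.subschemeι
  haveI := Groth.Agent.PullbackMod.isQCoh_pullback (pullback.fst f j) F
  obtain ⟨U, hU, hflat⟩ := Groth.Agent.S4799.result (pullback.snd f j)
    ((Scheme.Modules.pullback (pullback.fst f j)).obj F)
    (Groth.Agent.PullbackMod.isFP_pullback (pullback.fst f j) F hF)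
  let UY : Y.Opens := V.ι ''ᵁ U
  let Z' : Closeds S := ⟨I.subschemeι '' ((UY : Set Y)ᶜ),
    I.subschemeι.isClosedEmbedding.isClosedMap _ UY.isOpen.isClosed_compl⟩
  refine ⟨Z', lt_of_le_of_ne ?_ ?_, ?_⟩
  · intro s hs
    obtain ⟨q, -, rfl⟩ := hs
    show I.subschemeι q ∈ (Z : Set S)
    rw [← hr]
    exact ⟨q, rfl⟩
  · intro h
    obtain ⟨v, hv⟩ := hU
    have hm : I.subschemeι (V.ι v) ∈ (Z' : Set S) := by
      rw [h, ← hr]
      exact ⟨_, rfl⟩
    obtain ⟨q, hq, hqe⟩ := hm
    rw [I.subschemeι.isClosedEmbedding.injective hqe] at hq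
    exact hq ⟨v, hv, rfl⟩
  · let W : Y.Opens := I.subschemeι ⁻¹ᵁ Z'.compl
    have hWU : Set.range W.ι ⊆ Set.range (U.ι ≫ V.ι) := by
      rw [Scheme.Opens.range_ι, Scheme.Hom.comp_base, TopCat.coe_comp, Set.range_comp,
        Scheme.Opens.range_ι]
      intro q hq
      by_contra hn
      exact hq ⟨q, hn, rfl⟩
    let k : (W : Scheme.{u}) ⟶ U := IsOpenImmersion.lift (U.ι ≫ V.ι) W.ι hWU
    have hU' : FlatOn f F (U.ι ≫ j) := by
      let m : pullback f (U.ι ≫ j) ⟶ pullback f j :=
        pullback.lift (pullback.fst f (U.ι ≫ j)) (pullback.snd f (U.ι ≫ j) ≫ U.ι)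
          (by rw [pullback.condition, Category.assoc])
      have hsq : IsPullback m (pullback.snd f (U.ι ≫ j)) (pullback.snd f j) U.ι := by
        refine IsPullback.of_right ?_ (pullback.lift_snd _ _ _) (IsPullback.of_hasPullback f j)
        rw [pullback.lift_fst]
        exact IsPullback.of_hasPullback f (U.ι ≫ j)
      intro x
      refine Groth.Agent.PullbackMod.isFlatOverAt_of_iso
        ((Scheme.Modules.pullbackComp m (pullback.fst f j)).app F ≪≫
          (Scheme.Modules.pullbackCongr (pullback.lift_fst _ _ _)).app F) _ x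
        (Groth.Agent.PullbackMod.isFlatOverAt_baseChange hsq _ x (hflat _ ?_))
      have e := congrArg (fun φ : pullback f (U.ι ≫ j) ⟶ (V : Scheme.{u}) => φ.base x) hsq.w
      exact (show (pullback.snd f j).base (m.base x) = U.ι.base ((pullback.snd f (U.ι ≫ j)).base x)
        from e) ▸ ((pullback.snd f (U.ι ≫ j)).base x).2
    refine hU'.transfer (IsPullback.of_id_fst : IsPullback (𝟙 X) f f (𝟙 S))
      ((Scheme.Modules.pullbackId X).app F) _ k ?_
    rw [Category.comp_id]
    show k ≫ U.ι ≫ V.ι ≫ I.subschemeι = W.ι ≫ I.subschemeι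
    rw [← Category.assoc U.ι, ← Category.assoc k, IsOpenImmersion.lift_fac]

/-- A chain of closed subsets from `Z` to `⊥` with flatness on the strata. -/
theorem exists_chain (hF : CohB1.IsFP F) (Z : Closeds S) :
    ∃ (t : ℕ) (c : Fin (t + 1) → Closeds S), c 0 = Z ∧ c (Fin.last t) = ⊥ ∧
      (∀ i : Fin t, c i.succ ≤ c i.castSucc) ∧
      ∀ i : Fin t, FlatOn f F (stratumι (c i.castSucc) (c i.succ)) := by
  haveI : IsNoetherian S := {}
  induction Z using WellFoundedLT.induction with
  | ind Z ih =>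
    by_cases hZ : Z = ⊥
    · exact ⟨0, fun _ => Z, rfl, hZ, fun i => i.elim0, fun i => i.elim0⟩
    · obtain ⟨Z', hlt, hfl⟩ := exists_smaller f F hF Z hZ
      obtain ⟨t, c, hc0, hct, hmono, hflat⟩ := ih Z' hlt
      refine ⟨t + 1, Fin.cons Z c, rfl, ?_, fun i => ?_, fun i => ?_⟩
      · rw [← Fin.succ_last, Fin.cons_succ, hct]
      · refine Fin.cases ?_ (fun i => ?_) i
        · simpa [Fin.cons_zero, Fin.cons_succ, hc0] using hlt.le
        · simpa [Fin.castSucc_succ, Fin.cons_succ] using hmono i
      · refine Fin.cases ?_ (fun i => ?_) i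
        · show FlatOn f F (stratumι (Fin.cons (α := fun _ => Closeds S) Z c (0 : Fin (t + 1)).castSucc) _)
          rw [Fin.castSucc_zero, Fin.cons_zero, Fin.cons_succ, hc0]
          exact hfl
        · rw [Fin.castSucc_succ, Fin.cons_succ, Fin.cons_succ]
          exact hflat i

end Groth.Agent.GenFlatStrat
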