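import Groth.Agent.PullbackMod.Flat
import Groth.Agent.PullbackMod.FibreLocus
import Groth.Prelude.Def_FlatMod2

/-!
# Flatness of a module over a scheme mapping to the base
-/

set_option autoImplicit false
set_option linter.style.haveILetI false

universe u

open CategoryTheory CategoryTheory.Limits AlgebraicGeometry

noncomputable section

namespace Groth.Agent.GenFlatStrat

variable {X S : Scheme.{u}}

/-- The pullback of `F` to `X ×_S T` is flat over `T`. -/
def FlatOn (f : X ⟶ S) (F : X.Modules) {T : Scheme.{u}} (j : T ⟶ S) : Prop :=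
  FlatMod.IsFlatOver (pullback.snd f j) ((Scheme.Modules.pullback (pullback.fst f j)).obj F)

/-- Flatness over `T₀` gives flatness over any scheme mapping to `T₀` compatibly with a base
change of the situation. -/
theorem FlatOn.transfer {X₀ S₀ T₀ T : Scheme.{u}} {f₀ : X₀ ⟶ S₀} {F₀ : X₀.Modules} [Coh.IsQCoh F₀]
    {j₀ : T₀ ⟶ S₀} (h : FlatOn f₀ F₀ j₀) {f : X ⟶ S} {g : X ⟶ X₀} {π : S ⟶ S₀}
    (hP : IsPullback g f f₀ π) {F : X.Modules} (e : (Scheme.Modules.pullback g).obj F₀ ≅ F)
    (j : T ⟶ S) (k : T ⟶ T₀) (w : k ≫ j₀ = j ≫ π) : FlatOn f F j := by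
  let m : pullback f j ⟶ pullback f₀ j₀ :=
    pullback.lift (pullback.fst f j ≫ g) (pullback.snd f j ≫ k)
      (by rw [Category.assoc, Category.assoc, hP.w, w, pullback.condition_assoc])
  have hsq : IsPullback m (pullback.snd f j) (pullback.snd f₀ j₀) k := by
    refine IsPullback.of_right ?_ (pullback.lift_snd _ _ _) (IsPullback.of_hasPullback f₀ j₀)
    rw [pullback.lift_fst, w]
    exact (IsPullback.of_hasPullback f j).paste_horiz hP
  have e' : (Scheme.Modules.pullback m).obj ((Scheme.Modules.pullback (pullback.fst f₀ j₀)).obj F₀) ≅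
      (Scheme.Modules.pullback (pullback.fst f j)).obj F :=
    (Scheme.Modules.pullbackComp m (pullback.fst f₀ j₀)).app F₀ ≪≫
      (Scheme.Modules.pullbackCongr (pullback.lift_fst _ _ _)).app F₀ ≪≫
      ((Scheme.Modules.pullbackComp (pullback.fst f j) g).app F₀).symm ≪≫
      (Scheme.Modules.pullback (pullback.fst f j)).mapIso e
  intro x
  haveI := Groth.Agent.PullbackMod.isQCoh_pullback (pullback.fst f₀ j₀) F₀
  exact Groth.Agent.PullbackMod.isFlatOverAt_of_iso e' _ x
    (Groth.Agent.PullbackMod.isFlatOverAt_baseChange hsq _ x (h (m x)))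

end Groth.Agent.GenFlatStrat
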